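import Groth.Agent.EtProperH0Lib.DescBC
import Groth.Prelude.Def_EtAcyc

/-!
# (-1)-acyclic morphisms
-/

set_option autoImplicit false
set_option linter.style.haveILetI false
set_option linter.unusedSectionVars false
set_option backward.isDefEq.respectTransparency false
set_option backward.isDefEq.respectTransparency.types false
universe u

open CategoryTheory CategoryTheory.Limits AlgebraicGeometry Opposite EtDescentLib Groth.Agent.EtShLib EtProperH0Lib

namespace MinusOneLib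

noncomputable section

theorem exists_sep_ring {A B : Type u} [CommRing A] [CommRing B] (φ : A →+* B) (p : PrimeSpectrum A)
    (hp : p ∉ Set.range (PrimeSpectrum.comap φ)) :
    ∃ (a : A) (T : Finset A), a ∉ p.asIdeal ∧ (↑T : Set A) ⊆ p.asIdeal ∧
      ∀ q : PrimeSpectrum B, a ∈ (PrimeSpectrum.comap φ q).asIdeal ∨ ∃ t ∈ T, t ∉ (PrimeSpectrum.comap φ q).asIdeal := by
  classical
  rw [PrimeSpectrum.mem_range_comap_iff] at hp
  obtain ⟨a, ha, hap⟩ : ∃ a, a ∈ (p.asIdeal.map φ).comap φ ∧ a ∉ p.asIdeal :=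
    Set.not_subset.1 fun h => hp (le_antisymm h Ideal.le_comap_map)
  obtain ⟨T', hT', haT⟩ := Submodule.mem_span_finite_of_mem_span (R := B) (show φ a ∈ Submodule.span B (φ '' p.asIdeal) from ha)
  choose t ht hte using fun b : T' => hT' b.2
  refine ⟨a, Finset.univ.image t, hap, ?_, fun q => ?_⟩
  · intro x hx
    simp only [Finset.coe_image, Set.mem_image] at hx
    obtain ⟨b, -, rfl⟩ := hx
    exact ht b
  · by_contra h
    simp only [not_or, not_exists, not_and, not_not] at h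
    refine h.1 ?_
    refine (Submodule.span_le (p := q.asIdeal)).2 (fun b hb => ?_) haT
    have := h.2 (t ⟨b, hb⟩) (Finset.mem_image_of_mem t (Finset.mem_univ _))
    rw [show b = φ (t ⟨b, hb⟩) from (hte ⟨b, hb⟩).symm]
    exact this

/-- A point outside the image of a quasi-compact morphism has an open neighbourhood `V` and an open set `E`
missing it which contains the image inside `V`. -/
theorem exists_separation {X Y : Scheme.{u}} (g : X ⟶ Y) [QuasiCompact g] (y : Y) (hy : y ∉ Set.range g.base) :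
    ∃ (V E : Y.Opens), y ∈ V ∧ y ∉ E ∧ ∀ x : X, g.base x ∈ V → g.base x ∈ E := by
  obtain ⟨U, hU, hyU, -⟩ := exists_isAffineOpen_mem_and_subset (x := y) (U := (⊤ : Y.Opens)) trivial
  have hc : IsCompact ((g ⁻¹ᵁ U : X.Opens) : Set X) := g.isCompact_preimage hU.isCompact
  obtain ⟨s, hs, hse⟩ := isCompact_iff_finite_and_eq_biUnion_affineOpens.1 hc
  let p := hU.primeIdealOf ⟨y, hyU⟩
  have key : ∀ W : X.affineOpens, (W : X.Opens) ≤ g ⁻¹ᵁ U →
      ∃ (V E : Y.Opens), y ∈ V ∧ y ∉ E ∧ ∀ x : X, x ∈ (W : X.Opens) → g.base x ∈ V → g.base x ∈ E := by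
    intro W hW
    have hp : p ∉ Set.range (PrimeSpectrum.comap (g.appLE U W hW).hom) := by
      rintro ⟨q, hq⟩
      refine hy ⟨W.2.fromSpec q, ?_⟩
      have h := congrArg (fun k : Spec Γ(X, W) ⟶ Y => k.base q) (IsAffineOpen.SpecMap_appLE_fromSpec g hU W.2 hW)
      refine h.symm.trans ?_
      show hU.fromSpec (PrimeSpectrum.comap (g.appLE U W hW).hom q) = y
      rw [hq]
      exact hU.fromSpec_primeIdealOf ⟨y, hyU⟩
    obtain ⟨a, T, ha, hT, hq⟩ := exists_sep_ring _ p hp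
    have hmem : ∀ (r : Γ(Y, U)) (z : Y) (hz : z ∈ U), z ∈ Y.basicOpen r ↔ r ∉ (hU.primeIdealOf ⟨z, hz⟩).asIdeal :=
      fun r z hz => by
        have h1 : hU.fromSpec (hU.primeIdealOf ⟨z, hz⟩) ∈ Y.basicOpen r ↔
            r ∉ (hU.primeIdealOf ⟨z, hz⟩).asIdeal := by
          show hU.primeIdealOf ⟨z, hz⟩ ∈ hU.fromSpec ⁻¹ᵁ Y.basicOpen r ↔ _
          rw [hU.fromSpec_preimage_basicOpen]
          rfl
        rwa [hU.fromSpec_primeIdealOf ⟨z, hz⟩] at h1
    refine ⟨Y.basicOpen a, ⨆ t ∈ T, Y.basicOpen t, ?_, ?_, fun x hx hV => ?_⟩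
    · exact (hmem a y hyU).2 ha
    · intro h
      rw [TopologicalSpace.Opens.mem_iSup] at h
      obtain ⟨t, ht⟩ := h
      rw [TopologicalSpace.Opens.mem_iSup] at ht
      obtain ⟨htT, ht⟩ := ht
      exact ((hmem t y hyU).1 ht) (hT htT)
    · have hxU : g.base x ∈ U := hW hx
      have e : PrimeSpectrum.comap (g.appLE U W hW).hom (W.2.primeIdealOf ⟨x, hx⟩) = hU.primeIdealOf ⟨g.base x, hxU⟩ :=
        IsAffineOpen.comap_primeIdealOf_appLE (f := g) U hU W W.2 hW hx
      rcases hq (W.2.primeIdealOf ⟨x, hx⟩) with h | ⟨t, ht, h⟩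
      · rw [e] at h
        exact absurd h ((hmem a _ hxU).1 hV)
      · rw [e] at h
        exact le_iSup₂ (f := fun t _ => Y.basicOpen t) t ht ((hmem t _ hxU).2 h)
  choose V E hV hE hVE using fun W : {W : X.affineOpens // (W : X.Opens) ≤ g ⁻¹ᵁ U} => key W.1 W.2
  have hle : ∀ W ∈ s, (W : X.Opens) ≤ g ⁻¹ᵁ U := fun W hW => hse ▸ le_iSup₂ (f := fun (i : X.affineOpens) (_ : i ∈ s) => (i : X.Opens)) W hW
  haveI := hs.to_subtype
  refine ⟨U ⊓ ⟨⋂ W : s, (V ⟨W.1, hle _ W.2⟩ : Set Y), isOpen_iInter_of_finite fun W => (V _).isOpen⟩,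
    ⨆ W : s, E ⟨W.1, hle _ W.2⟩, ⟨hyU, Set.mem_iInter.2 fun W => hV _⟩, ?_, fun x hx => ?_⟩
  · intro h
    obtain ⟨W, hW⟩ := TopologicalSpace.Opens.mem_iSup.1 h
    exact hE _ hW
  · have hx' : x ∈ (g ⁻¹ᵁ U : X.Opens) := hx.1
    rw [hse] at hx'
    simp only [TopologicalSpace.Opens.mem_iSup] at hx'
    obtain ⟨W, hW, hxW⟩ := hx'
    exact le_iSup (fun W : s => E ⟨W.1, hle _ W.2⟩) ⟨W, hW⟩ (hVE ⟨W, hle _ hW⟩ x hxW (Set.mem_iInter.1 hx.2 ⟨W, hW⟩))

theorem minusOne_of_surjective {X Y : Scheme.{u}} (g : X ⟶ Y) [Surjective g] : EtAcyc.IsMinusOneAcyclic g := fun V F => by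
  haveI : Surjective (pullback.fst V.hom g) := MorphismProperty.pullback_fst _ _ ‹_›
  exact mono_unit_of_surjective (p := EtAcyc.prj g V) (pullback.fst V.hom g).surjective F

theorem surjective_of_minusOne {X Y : Scheme.{u}} (g : X ⟶ Y) [QuasiCompact g] (h : EtAcyc.IsMinusOneAcyclic g) :
    Function.Surjective g.base := by
  intro y
  by_contra hy
  obtain ⟨V, E, hyV, hyE, hVE⟩ := exists_separation g y fun ⟨x, hx⟩ => hy ⟨x, hx⟩
  let W : Y.Etale := MorphismProperty.Over.mk ⊤ V.ι (inferInstance : Etale V.ι)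
  let E' : W.left.Opens := V.ι ⁻¹ᵁ E
  obtain ⟨H, s, t, hne, hagree⟩ := exists_sheaf_two_sections (X := W.left) ⟨y, hyV⟩
  haveI := h W H
  refine hne (app_injective_of_mono ((EtDesc.adjSh (EtAcyc.prj g W)).unit.app H) (EtCoh.top W.left) ?_)
  refine (bijective_tau (EtAcyc.prj g W) H _).1 ?_
  rw [tau_adjUnit, tau_adjUnit]
  have hr : Set.range (gOf (EtAcyc.prj g W) (EtCoh.top W.left)).left.base ⊆ Set.range E'.ι.base := by
    rw [Scheme.Opens.range_ι, gOf_left]
    rintro _ ⟨(z : ↥(pullback (𝟙 W.left) (EtAcyc.prj g W))), rfl⟩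
    have e1 : (pullback.fst (𝟙 W.left) (EtAcyc.prj g W)).base z =
        (EtAcyc.prj g W).base ((pullback.snd (𝟙 W.left) (EtAcyc.prj g W)).base z) :=
      congrArg (fun k : pullback (𝟙 W.left) (EtAcyc.prj g W) ⟶ W.left => k.base z)
        ((Category.comp_id _).symm.trans pullback.condition)
    show (pullback.fst (𝟙 W.left) (EtAcyc.prj g W)).base z ∈ E'
    rw [e1]
    let w : ↥(pullback W.hom g) := (pullback.snd (𝟙 W.left) (EtAcyc.prj g W)).base z
    show V.ι.base ((pullback.fst W.hom g).base w) ∈ E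
    have e2 : W.hom.base ((pullback.fst W.hom g).base w) = g.base ((pullback.snd W.hom g).base w) :=
      congrArg (fun k : pullback W.hom g ⟶ Y => k.base w) pullback.condition
    rw [show V.ι.base ((pullback.fst W.hom g).base w) = W.hom.base ((pullback.fst W.hom g).base w) from rfl, e2]
    refine hVE _ ?_
    rw [← e2]
    exact ((pullback.fst W.hom g).base w).2
  let U : W.left.Etale := MorphismProperty.Over.mk ⊤ E'.ι (inferInstance : Etale E'.ι)
  let j : U ⟶ EtCoh.top W.left := MorphismProperty.Over.homMk E'.ι (Category.comp_id _) trivial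
  let l := IsOpenImmersion.lift E'.ι (gOf (EtAcyc.prj g W) (EtCoh.top W.left)).left hr
  have hl : l ≫ E'.ι = (gOf (EtAcyc.prj g W) (EtCoh.top W.left)).left := IsOpenImmersion.lift_fac _ _ _
  let q : (Over.map (EtAcyc.prj g W)).obj ((EtFppf.a _).obj ((EtCoh.bc (EtAcyc.prj g W)).obj (EtCoh.top W.left))) ⟶
      (EtFppf.a W.left).obj U := Over.homMk l (by
    show l ≫ E'.ι = _
    rw [hl]
    exact (Category.comp_id _).symm.trans (Over.w (gOf (EtAcyc.prj g W) (EtCoh.top W.left))))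
  have hq : q ≫ (EtFppf.a W.left).map j = gOf (EtAcyc.prj g W) (EtCoh.top W.left) := Over.OverMorphism.ext hl
  rw [← hq, map_comp_apply', map_comp_apply', ← sb_map, ← sb_map]
  exact congrArg (fun v => (bigP H).map q.op (sb H U v)) (hagree E' U j (fun hz => hyE hz) fun z => z.2)

end

end MinusOneLib
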